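import Groth.Agent.Pic13.H969.BettiFam
import Groth.Agent.Fdesc.LocGen
import Groth.Agent.S0002
import Groth.Agent.CurvSt.K740.Emb

/-!
# The open locus where `H¹` of the fibres vanishes

`exists_opens_H1van` : for `q : X ⟶ T` proper and flat, `T` locally Noetherian, and `L` invertible, there is an open
`U` of `T` such that for every base change `g : T' ⟶ T` the module `L` has no `H¹` on the field-valued fibres of
`X' ⟶ T'` iff `g` lands in `U`.
-/

set_option autoImplicit false

universe u

open CategoryTheory CategoryTheory.Limits AlgebraicGeometry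

namespace K139.OpensH1

open Groth.Agent

theorem isCoh_of_isInvertible {X : Scheme.{u}} {L : X.Modules} (hL : PicF.IsInvertible L) : Coh.IsCoh L :=
  ⟨Groth.Agent.Ega2.QCohLocal.isQCoh_of_isInvertible hL,
    Groth.Agent.Models2.FPCoh.isFT_of_isFP (Ega3B.ChiFib.isFP_of_isInvertible hL)⟩

/-- Vanishing of cohomology on a field-valued fibre is vanishing of the Betti number at the point below. -/
theorem subsingleton_iff {X S : Scheme.{u}} (f : X ⟶ S) [IsProper f] {L : X.Modules} (hL : PicF.IsInvertible L)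
    (k : Type u) [Field k] (t : Spec (CommRingCat.of k) ⟶ S) (Y : Scheme.{u}) (i : Y ⟶ X)
    (p : Y ⟶ Spec (CommRingCat.of k)) (H : IsPullback i p f t) (n : ℕ) :
    Subsingleton (Coh.HH Y ((Scheme.Modules.pullback i).obj L) n) ↔
      PerfAux.betti f L (t (IsLocalRing.closedPoint k)) n = 0 := by
  let _ : Y.Over (Spec (CommRingCat.of k)) := ⟨p⟩
  have hp : IsProper (Y ↘ Spec (CommRingCat.of k)) :=
    MorphismProperty.of_isPullback H inferInstance
  rw [Pic13.H969.BettiFam.betti_eq_finrank f k t Y i H L (isCoh_of_isInvertible hL).1 n]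
  have hc : Coh.IsCoh ((Scheme.Modules.pullback i).obj L) :=
    isCoh_of_isInvertible (Groth.Agent.Fdesc.LocGen.isInvertible_pullback i hL)
  have hfin := Groth.Agent.S0002.result k Y _ hc n
  exact ⟨fun h => Module.finrank_zero_of_subsingleton, fun h => Module.finrank_zero_iff.1 h⟩

theorem subsingleton_congr {X : Scheme.{u}} {M N : X.Modules} (e : M ≅ N) (n : ℕ) :
    Subsingleton (Coh.HH X M n) ↔ Subsingleton (Coh.HH X N n) :=
  (PerfB.FiberBC.isoΓ e n).toEquiv.subsingleton_congr

theorem exists_opens_H1van {X T : Scheme.{u}} [IsLocallyNoetherian T] (q : X ⟶ T) [IsProper q] [Flat q]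
    (_hdim : ∀ x : X, FlatMor.fibreDimAt q x ≤ 1) (L : X.Modules) (hL : PicF.IsInvertible L) :
    ∃ U : T.Opens, ∀ (T' X' : Scheme.{u}) (g : T' ⟶ T) (g' : X' ⟶ X) (q' : X' ⟶ T'), IsPullback g' q' q g →
      (K740.Emb.H1van q' ((Scheme.Modules.pullback g').obj L) ↔ Set.range g ⊆ (U : Set T)) := by
  have : LocallyOfFinitePresentation q := LocallyOfFinitePresentation.iff_locallyOfFiniteType.2 inferInstance
  have hop : IsOpen {s : T | PerfAux.betti q L s 1 < 1} :=
    PerfB.Semi.isOpen_betti q L (Ega3B.ChiFib.isFP_of_isInvertible hL)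
      (Ega3B.ChiFib.isFlatOver_of_isInvertible q hL) 1 1
  refine ⟨⟨_, hop⟩, fun T' X' g g' q' H => ?_⟩
  -- the comparison at one field-valued point
  have key : ∀ (k : Type u) [Field k] (t : Spec (CommRingCat.of k) ⟶ T') (Y : Scheme.{u}) (i : Y ⟶ X')
      (p : Y ⟶ Spec (CommRingCat.of k)), IsPullback i p q' t →
      (Subsingleton (Coh.HH Y ((Scheme.Modules.pullback i).obj ((Scheme.Modules.pullback g').obj L)) 1) ↔
        PerfAux.betti q L (g (t (IsLocalRing.closedPoint k))) 1 < 1) := by
    intro k _ t Y i p hY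
    have h1 : IsPullback (i ≫ g') p q (t ≫ g) := hY.paste_horiz H
    have h2 := subsingleton_congr ((Scheme.Modules.pullbackComp i g').app L) 1
    have h3 := subsingleton_iff q hL k (t ≫ g) Y (i ≫ g') p h1 1
    exact (h2.trans h3).trans Nat.lt_one_iff.symm
  constructor
  · rintro h _ ⟨t', rfl⟩
    have hpb : IsPullback (q'.fiberι t') (q'.fiberToSpecResidueField t') q' (T'.fromSpecResidueField t') :=
      IsPullback.of_hasPullback _ _
    have h2 := (key _ (T'.fromSpecResidueField t') _ _ _ hpb).1 (h _ _ _ _ _ hpb)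
    have h3 : T'.fromSpecResidueField t' (IsLocalRing.closedPoint (T'.residueField t')) = t' :=
      Scheme.fromSpecResidueField_apply _ _
    exact (congrArg (fun z => PerfAux.betti q L (g z) 1 < 1) h3).mp h2
  · intro h k _ t Y i p hY
    exact (key k t Y i p hY).2 (h ⟨_, rfl⟩)

end K139.OpensH1
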